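import Cfsg.Agent.J4Rep.Data

/-! Generated: kernel checks of relators. -/

set_option autoImplicit false
set_option Elab.async false
set_option maxRecDepth 100000

namespace Cfsg.Agent.J4Rep

open Cfsg.Spor.J4

theorem rel7_ok : idB mat 112 (relLists.getD 7 []) = true := by decide +kernel

theorem rel8_ok : idB mat 112 (relLists.getD 8 []) = true := by decide +kernel

theorem rel9_ok : idB mat 112 (relLists.getD 9 []) = true := by decide +kernel

theorem rel10_ok : idB mat 112 (relLists.getD 10 []) = true := by decide +kernel

end Cfsg.Agent.J4Rep
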