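import Cfsg.Agent.J4Rep.Check0
import Cfsg.Agent.J4Rep.Check1
import Cfsg.Agent.J4Rep.Check2
import Cfsg.Agent.J4Rep.Check3

/-!
# A representation of the presented J4

The presented group acts on the vectors of dimension 112 over the field with two elements, and
`x`, `y` and `t` do not act trivially.
-/

set_option autoImplicit false
set_option maxRecDepth 100000

namespace Cfsg.Agent.J4Rep

open Cfsg.Spor

theorem small_ok : smallB 112 colsX = true ∧ smallB 112 colsY = true ∧ smallB 112 colsYi = true ∧
    smallB 112 colsT = true := by decide +kernel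

theorem invX : idB (fun b => bif b then colsX else colsX) 112 [false, true] = true := by
  decide +kernel

theorem invX' : idB (fun b => bif b then colsX else colsX) 112 [true, false] = true := by
  decide +kernel

theorem invY : idB (fun b => bif b then colsY else colsYi) 112 [false, true] = true := by
  decide +kernel

theorem invY' : idB (fun b => bif b then colsY else colsYi) 112 [true, false] = true := by
  decide +kernel

theorem invT : idB (fun b => bif b then colsT else colsT) 112 [false, true] = true := by
  decide +kernel

theorem invT' : idB (fun b => bif b then colsT else colsT) 112 [true, false] = true := by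
  decide +kernel

/-- The images of the generators. -/
noncomputable def genPerm : J4.Gen → Equiv.Perm (Vec 112)
  | .x => toPerm colsX colsX small_ok.1 small_ok.1 invX invX'
  | .y => toPerm colsY colsYi small_ok.2.1 small_ok.2.2.1 invY invY'
  | .t => toPerm colsT colsT small_ok.2.2.2 small_ok.2.2.2 invT invT'

theorem letter_apply : ∀ (a : J4.Gen × Bool) (v : Vec 112),
    ((bif a.2 then genPerm a.1 else (genPerm a.1)⁻¹) v).1 = app (mat a) v.1
  | (.x, true), _ => rfl
  | (.x, false), _ => rfl
  | (.y, true), _ => rfl
  | (.y, false), _ => rfl
  | (.t, true), _ => rfl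
  | (.t, false), _ => rfl

theorem relLists_eq : J4.extra.map FreeGroup.toWord = relLists := by decide +kernel

theorem rel_ok : ∀ i < 12, idB mat 112 (relLists.getD i []) = true := by
  intro i hi
  interval_cases i
  · exact rel0_ok
  · exact rel1_ok
  · exact rel2_ok
  · exact rel3_ok
  · exact rel4_ok
  · exact rel5_ok
  · exact rel6_ok
  · exact rel7_ok
  · exact rel8_ok
  · exact rel9_ok
  · exact rel10_ok
  · exact rel11_ok

theorem relators_hold : ∀ r ∈ coxRelators J4.edges ∪ {r | r ∈ J4.extra},
    FreeGroup.lift genPerm r = 1 := by
  rintro r (⟨a, ha, -⟩ | hr)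
  · simp [coxNodes, J4.edges] at ha
  · have hw : r.toWord ∈ relLists := relLists_eq ▸ List.mem_map_of_mem hr
    obtain ⟨i, hi, he⟩ := List.mem_iff_getElem.1 hw
    have hlen : relLists.length = 12 := rfl
    have h := rel_ok i (hlen ▸ hi)
    rw [List.getD_eq_getElem _ _ hi, he] at h
    have hp := prod_eq_one mat (fun a => bif a.2 then genPerm a.1 else (genPerm a.1)⁻¹)
      letter_apply h
    rw [← FreeGroup.mk_toWord (x := r), FreeGroup.lift_mk]
    exact hp

/-- The representation. -/
noncomputable def rho : J4 →* Equiv.Perm (Vec 112) :=
  PresentedGroup.toGroup relators_hold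

theorem rho_of (g : J4.Gen) : rho (PresentedGroup.of g) = genPerm g :=
  PresentedGroup.toGroup.of relators_hold

theorem moved_ok : Nat.beq (app colsX 1) 1 = false ∨ Nat.beq (app colsX 2) 2 = false := by
  decide +kernel

theorem genPerm_x_ne_one : genPerm J4.Gen.x ≠ 1 := by
  intro h
  have h1 : ∀ v < 2 ^ 112, app colsX v = v := fun v hv => by
    have := congrArg (fun σ : Equiv.Perm (Vec 112) => (σ ⟨v, hv⟩).1) h
    exact this
  rcases moved_ok with hm | hm
  · rw [h1 1 (by norm_num)] at hm
    exact absurd hm (by decide)
  · rw [h1 2 (by norm_num)] at hm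
    exact absurd hm (by decide)

theorem of_x_ne_one : (PresentedGroup.of J4.Gen.x : J4) ≠ 1 := fun h =>
  genPerm_x_ne_one (by rw [← rho_of, h, map_one])

end Cfsg.Agent.J4Rep
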