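import Cfsg.Agent.J4Rep.Main

/-!
# The representation of the presented J4 by matrices

Permutations of the vectors that respect addition are invertible matrices.
-/

set_option autoImplicit false
set_option maxRecDepth 100000

namespace Cfsg.Agent.J4Rep

variable {d : Nat}

/-- The sum of two vectors. -/
def xv (a b : Vec d) : Vec d := ⟨a.1 ^^^ b.1, Nat.xor_lt_two_pow a.2 b.2⟩

/-- The permutations that respect addition. -/
def linPerms (d : Nat) : Subgroup (Equiv.Perm (Vec d)) where
  carrier := {σ | ∀ a b, σ (xv a b) = xv (σ a) (σ b)}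
  one_mem' := fun _ _ => rfl
  mul_mem' := fun {σ τ} hσ hτ a b => by
    show σ (τ (xv a b)) = xv (σ (τ a)) (σ (τ b))
    rw [hτ a b, hσ (τ a) (τ b)]
  inv_mem' := fun {σ} hσ a b => by
    apply σ.injective
    rw [hσ (σ⁻¹ a) (σ⁻¹ b)]
    simp

/-- The coordinates of a vector. -/
def bits (v : Vec d) : Fin d → ZMod 2 := fun i => if v.1.testBit i then 1 else 0

theorem bits_xv (a b : Vec d) : bits (xv a b) = bits a + bits b := by
  funext i
  simp only [bits, xv, Nat.testBit_xor, Pi.add_apply]
  cases a.1.testBit i <;> cases b.1.testBit i <;> decide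

theorem bits_bijective : Function.Bijective (bits (d := d)) := by
  let e : Vec d ≃ Fin (2 ^ d) :=
    { toFun := fun v => ⟨v.1, v.2⟩, invFun := fun v => ⟨v.1, v.2⟩,
      left_inv := fun _ => rfl, right_inv := fun _ => rfl }
  have : Finite (Vec d) := Finite.of_equiv _ e.symm
  refine Function.Injective.bijective_of_nat_card_le ?_ ?_
  · intro a b h
    apply Subtype.ext
    refine Nat.eq_of_testBit_eq fun i => ?_
    by_cases hi : i < d
    · have h' := congrFun h ⟨i, hi⟩
      revert h'
      simp only [bits]
      cases a.1.testBit i <;> cases b.1.testBit i <;> decide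
    · have hpow : 2 ^ d ≤ 2 ^ i := Nat.pow_le_pow_right (by norm_num) (by omega)
      rw [Nat.testBit_lt_two_pow (a.2.trans_le hpow), Nat.testBit_lt_two_pow (b.2.trans_le hpow)]
  · rw [Nat.card_congr e, Nat.card_fun, Nat.card_fin, Nat.card_fin, Nat.card_zmod]

/-- Coordinates. -/
noncomputable def coords : Vec d ≃ (Fin d → ZMod 2) := Equiv.ofBijective _ bits_bijective

theorem coords_xv (a b : Vec d) : coords (xv a b) = coords a + coords b := bits_xv a b

/-- A permutation respecting addition as a linear map. -/
noncomputable def toEnd : linPerms d →* Module.End (ZMod 2) (Fin d → ZMod 2) where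
  toFun σ := AddMonoidHom.toZModLinearMap 2
    (AddMonoidHom.mk' (fun v => coords (σ.1 (coords.symm v))) fun v w => by
      have h : coords.symm (v + w) = xv (coords.symm v) (coords.symm w) := by
        rw [Equiv.symm_apply_eq, coords_xv, Equiv.apply_symm_apply, Equiv.apply_symm_apply]
      rw [h, σ.2, coords_xv])
  map_one' := LinearMap.ext fun v => by simp
  map_mul' σ τ := LinearMap.ext fun v => by simp

theorem toEnd_injective : Function.Injective (toEnd (d := d)) := by
  intro σ τ h
  refine Subtype.ext (Equiv.ext fun a => coords.injective ?_)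
  have := LinearMap.congr_fun h (coords a)
  simpa [toEnd] using this

/-- A permutation respecting addition as an invertible matrix. -/
noncomputable def toGL : linPerms d →* GL (Fin d) (ZMod 2) :=
  (Units.map LinearMap.toMatrixAlgEquiv'.toMulEquiv.toMonoidHom).comp
    (MonoidHom.toHomUnits toEnd)

theorem toGL_injective : Function.Injective (toGL (d := d)) := by
  intro σ τ h
  apply toEnd_injective
  have h' := congrArg Units.val h
  exact LinearMap.toMatrixAlgEquiv'.injective h'

open Cfsg.Spor

theorem genPerm_mem : ∀ g, genPerm g ∈ linPerms 112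
  | .x => fun a b => Subtype.ext (app_xor colsX a.1 b.1)
  | .y => fun a b => Subtype.ext (app_xor colsY a.1 b.1)
  | .t => fun a b => Subtype.ext (app_xor colsT a.1 b.1)

theorem rho_mem (g : J4) : rho g ∈ linPerms 112 := by
  refine PresentedGroup.generated_by _ ((linPerms 112).comap rho) (fun b => ?_) g
  rw [Subgroup.mem_comap, rho_of]
  exact genPerm_mem b

/-- The representation by matrices. -/
noncomputable def rhoGL : J4 →* GL (Fin 112) (ZMod 2) :=
  toGL.comp (rho.codRestrict (linPerms 112) rho_mem)

theorem rhoGL_of_x_ne_one : rhoGL (PresentedGroup.of J4.Gen.x) ≠ 1 := by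
  intro h
  have h' : rho.codRestrict (linPerms 112) rho_mem (PresentedGroup.of J4.Gen.x) = 1 :=
    toGL_injective (h.trans (map_one toGL).symm)
  exact genPerm_x_ne_one (by rw [← rho_of]; exact congrArg Subtype.val h')

/-- If the presented group is simple, it is a group of matrices. -/
theorem rhoGL_injective (hs : IsSimpleGroup J4) : Function.Injective rhoGL := by
  rw [← MonoidHom.ker_eq_bot_iff]
  rcases rhoGL.normal_ker.eq_bot_or_eq_top with h | h
  · exact h
  · exact absurd ((MonoidHom.mem_ker (f := rhoGL)).1 (h ▸ Subgroup.mem_top _)) rhoGL_of_x_ne_one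

end Cfsg.Agent.J4Rep
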