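import Cfsg.Agent.J4Rep.Data

/-! Generated: kernel checks of relators. -/

set_option autoImplicit false
set_option Elab.async false
set_option maxRecDepth 100000

namespace Cfsg.Agent.J4Rep

open Cfsg.Spor.J4

theorem rel0_ok : idB mat 112 (relLists.getD 0 []) = true := by decide +kernel

theorem rel1_ok : idB mat 112 (relLists.getD 1 []) = true := by decide +kernel

theorem rel2_ok : idB mat 112 (relLists.getD 2 []) = true := by decide +kernel

theorem rel3_ok : idB mat 112 (relLists.getD 3 []) = true := by decide +kernel

end Cfsg.Agent.J4Rep
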