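import Mathlib
import Cfsg.Agent.CosetCert.Basic

/-!
# Packed matrices over the field with two elements

A matrix is the list of its columns, each column a number whose bits are the entries.  A matrix
with a two-sided inverse gives a permutation of the numbers below `2 ^ d`.
-/

set_option autoImplicit false

namespace Cfsg.Agent.J4Rep

open Cfsg.Agent.CosetCert

/-- The sum of the columns picked by the bits of `v`. -/
noncomputable def app (C : List Nat) (v : Nat) : Nat :=
  List.rec (motive := fun _ => Nat → Nat) (fun _ => 0)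
    (fun c _ ih v => force (ih (Nat.shiftRight v 1)) fun r =>
      cond (Nat.beq (Nat.land v 1) 1) (Nat.xor c r) r) C v

theorem app_nil (v : Nat) : app [] v = 0 := rfl

theorem app_cons (c : Nat) (C : List Nat) (v : Nat) :
    app (c :: C) v = (if v.testBit 0 then c else 0) ^^^ app C (v >>> 1) := by
  show force (app C (Nat.shiftRight v 1)) (fun r =>
      cond (Nat.beq (Nat.land v 1) 1) (Nat.xor c r) r) = _
  rw [force_eq]
  have h : Nat.beq (Nat.land v 1) 1 = v.testBit 0 := by
    rw [show Nat.land v 1 = v &&& 1 from rfl, Nat.and_one_is_mod, Nat.testBit_zero,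
      Bool.eq_iff_iff, Nat.beq_eq, decide_eq_true_iff]
  rw [h]
  cases v.testBit 0
  · show app C (v >>> 1) = 0 ^^^ _
    rw [Nat.zero_xor]
  · rfl

theorem app_xor (C : List Nat) (a b : Nat) : app C (a ^^^ b) = app C a ^^^ app C b := by
  induction C generalizing a b with
  | nil => simp [app_nil]
  | cons c C ih =>
    rw [app_cons, app_cons, app_cons, Nat.shiftRight_xor_distrib, ih, Nat.testBit_xor]
    generalize app C (a >>> 1) = p
    generalize app C (b >>> 1) = q
    cases a.testBit 0 <;> cases b.testBit 0
    · simp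
    · simp only [Bool.false_bne, if_true, Bool.false_eq_true, if_false, Nat.zero_xor]
      ac_rfl
    · simp only [Bool.bne_false, if_true, Bool.false_eq_true, if_false, Nat.zero_xor]
      ac_rfl
    · simp only [bne_self_eq_false, if_true, Bool.false_eq_true, if_false, Nat.zero_xor]
      rw [show c ^^^ p ^^^ (c ^^^ q) = (c ^^^ c) ^^^ (p ^^^ q) by ac_rfl, Nat.xor_self,
        Nat.zero_xor]

theorem app_zero (C : List Nat) : app C 0 = 0 := by
  have h := app_xor C 0 0
  simpa using h

theorem app_lt {d : Nat} {C : List Nat} (h : ∀ c ∈ C, c < 2 ^ d) (v : Nat) : app C v < 2 ^ d := by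
  induction C generalizing v with
  | nil => exact Nat.two_pow_pos d
  | cons c C ih =>
    rw [app_cons]
    refine Nat.xor_lt_two_pow ?_ (ih (fun x hx => h x (List.mem_cons_of_mem _ hx)) _)
    split
    · exact h c List.mem_cons_self
    · exact Nat.two_pow_pos d

/-- An additive map that fixes the unit vectors below `2 ^ d` fixes everything below. -/
theorem eq_self_of_basis {f : Nat → Nat} (hf : ∀ a b, f (a ^^^ b) = f a ^^^ f b) :
    ∀ d, (∀ i < d, f (2 ^ i) = 2 ^ i) → ∀ v < 2 ^ d, f v = v := by
  intro d
  induction d with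
  | zero =>
    intro _ v hv
    have hv' : v = 0 := by simpa using hv
    subst hv'
    have h0 := hf 0 0
    simpa using h0
  | succ d ih =>
    intro h v hv
    have ihd := ih fun i hi => h i (by omega)
    by_cases hb : v < 2 ^ d
    · exact ihd v hb
    · have hlow : v ^^^ 2 ^ d < 2 ^ d := by
        refine Nat.lt_pow_two_of_testBit _ fun i hi => ?_
        rw [Nat.testBit_xor, Nat.testBit_two_pow]
        rcases Nat.lt_or_ge i (d + 1) with h1 | h1
        · obtain rfl : i = d := by omega
          have ht : v.testBit i = true := Nat.testBit_of_two_pow_le_and_two_pow_add_one_gt (Nat.le_of_not_lt hb) hv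
          simp [ht]
        · have ht : v.testBit i = false :=
            Nat.testBit_lt_two_pow (lt_of_lt_of_le hv (Nat.pow_le_pow_right (by norm_num) h1))
          simp [ht]
          omega
      conv_rhs => rw [show v = (v ^^^ 2 ^ d) ^^^ 2 ^ d by
        rw [Nat.xor_assoc, Nat.xor_self, Nat.xor_zero]]
      conv_lhs => rw [show v = (v ^^^ 2 ^ d) ^^^ 2 ^ d by
        rw [Nat.xor_assoc, Nat.xor_self, Nat.xor_zero]]
      rw [hf, ihd _ hlow, h d (by omega)]

/-- Apply the matrices of a word, the last first. -/
noncomputable def run {α : Type*} (M : α → List Nat) (w : List α) (v : Nat) : Nat :=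
  List.rec (motive := fun _ => Nat) v (fun a _ ih => force ih fun r => app (M a) r) w

theorem run_cons {α : Type*} (M : α → List Nat) (a : α) (w : List α) (v : Nat) :
    run M (a :: w) v = app (M a) (run M w v) := by
  show force (run M w v) (fun r => app (M a) r) = _
  rw [force_eq]

theorem run_xor {α : Type*} (M : α → List Nat) (w : List α) (a b : Nat) :
    run M w (a ^^^ b) = run M w a ^^^ run M w b := by
  induction w with
  | nil => rfl
  | cons x w ih => rw [run_cons, run_cons, run_cons, ih, app_xor]

/-- Several numbers side by side in fields of width `d`. -/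
def pk (d : Nat) : List Nat → Nat
  | [] => 0
  | v :: vs => v + 2 ^ d * pk d vs

theorem pk_cons_mod {d v : Nat} (hv : v < 2 ^ d) (P : Nat) : (v + 2 ^ d * P) % 2 ^ d = v := by
  rw [Nat.add_mul_mod_self_left, Nat.mod_eq_of_lt hv]

theorem pk_cons_div {d v : Nat} (hv : v < 2 ^ d) (P : Nat) : (v + 2 ^ d * P) / 2 ^ d = P := by
  rw [Nat.add_mul_div_left _ _ (Nat.two_pow_pos d), Nat.div_eq_of_lt hv, Nat.zero_add]

theorem xor_cons {d a b : Nat} (ha : a < 2 ^ d) (hb : b < 2 ^ d) (P Q : Nat) :
    (a + 2 ^ d * P) ^^^ (b + 2 ^ d * Q) = (a ^^^ b) + 2 ^ d * (P ^^^ Q) := by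
  conv_lhs => rw [← Nat.mod_add_div ((a + 2 ^ d * P) ^^^ (b + 2 ^ d * Q)) (2 ^ d)]
  rw [Nat.xor_mod_two_pow, Nat.xor_div_two_pow, pk_cons_mod ha, pk_cons_mod hb, pk_cons_div ha,
    pk_cons_div hb]

theorem pk_xor {d : Nat} (f g : Nat → Nat) (hf : ∀ v, f v < 2 ^ d) (hg : ∀ v, g v < 2 ^ d)
    (vs : List Nat) :
    pk d (vs.map f) ^^^ pk d (vs.map g) = pk d (vs.map fun v => f v ^^^ g v) := by
  induction vs with
  | nil => simp [pk]
  | cons v vs ih => simp only [List.map_cons, pk]; rw [xor_cons (hf v) (hg v), ih]

theorem pk_mul (d c : Nat) (vs : List Nat) : pk d vs * c = pk d (vs.map fun v => v * c) := by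
  induction vs with
  | nil => simp [pk]
  | cons v vs ih => simp only [List.map_cons, pk]; rw [← ih]; ring

theorem pk_bit {d j : Nat} (hj : j < d) : ∀ vs : List Nat, (∀ v ∈ vs, v < 2 ^ d) →
    (pk d vs >>> j) &&& pk d (List.replicate vs.length 1) =
      pk d (vs.map fun v => (v >>> j) &&& 1) := by
  intro vs
  induction vs with
  | nil => intro _; simp [pk]
  | cons v vs ih =>
    intro h
    have hv := h v List.mem_cons_self
    have ihv := ih fun x hx => h x (List.mem_cons_of_mem _ hx)
    simp only [List.map_cons, List.length_cons, List.replicate_succ, pk]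
    generalize pk d vs = P at ihv ⊢
    generalize pk d (List.replicate vs.length 1) = M at ihv ⊢
    have h1 : 1 < 2 ^ d := Nat.one_lt_two_pow (by omega)
    conv_lhs => rw [← Nat.mod_add_div (((v + 2 ^ d * P) >>> j) &&& (1 + 2 ^ d * M)) (2 ^ d)]
    rw [Nat.and_mod_two_pow, Nat.and_div_two_pow, pk_cons_mod h1, pk_cons_div h1]
    congr 1
    · rw [Nat.and_one_is_mod, Nat.and_one_is_mod,
        Nat.mod_mod_of_dvd _ (dvd_pow_self 2 (show d ≠ 0 by omega))]
      have ht := Nat.testBit_two_pow_mul_add P hv j
      rw [if_pos hj, Nat.add_comm (2 ^ d * P) v] at ht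
      simp only [Nat.testBit_eq_decide_div_mod_eq, decide_eq_decide] at ht
      rw [Nat.shiftRight_eq_div_pow, Nat.shiftRight_eq_div_pow]
      omega
    · congr 1
      rw [← ihv, Nat.shiftRight_eq_div_pow, Nat.shiftRight_eq_div_pow, Nat.div_div_eq_div_mul,
        Nat.mul_comm (2 ^ j), ← Nat.div_div_eq_div_mul, pk_cons_div hv]

/-- Apply a matrix to all fields at once; `m` has a one at the bottom of every field. -/
noncomputable def sapp (m : Nat) (C : List Nat) (S : Nat) : Nat :=
  List.rec (motive := fun _ => Nat → Nat) (fun _ => 0)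
    (fun c _ ih S => force (ih (Nat.shiftRight S 1)) fun r =>
      Nat.xor (Nat.mul (Nat.land S m) c) r) C S

theorem sapp_cons (m c : Nat) (C : List Nat) (S : Nat) :
    sapp m (c :: C) S = ((S &&& m) * c) ^^^ sapp m C (S >>> 1) := by
  show force (sapp m C (Nat.shiftRight S 1)) (fun r => Nat.xor (Nat.mul (Nat.land S m) c) r) = _
  rw [force_eq]
  rfl

theorem sapp_spec {d : Nat} (vs : List Nat) (hvs : ∀ v ∈ vs, v < 2 ^ d) :
    ∀ (C : List Nat) (j : Nat), (∀ c ∈ C, c < 2 ^ d) → j + C.length ≤ d →
      sapp (pk d (List.replicate vs.length 1)) C (pk d vs >>> j) =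
        pk d (vs.map fun v => app C (v >>> j)) := by
  intro C
  induction C with
  | nil =>
    intro j _ _
    simp only [app_nil]
    show 0 = _
    induction vs with
    | nil => rfl
    | cons v vs ih =>
      simp only [List.map_cons, pk]
      rw [← ih fun x hx => hvs x (List.mem_cons_of_mem _ hx)]
      simp
  | cons c C ih =>
    intro j hC hj
    simp only [List.length_cons] at hj
    have hc := hC c List.mem_cons_self
    have hC' : ∀ x ∈ C, x < 2 ^ d := fun x hx => hC x (List.mem_cons_of_mem _ hx)
    rw [sapp_cons, pk_bit (by omega) vs hvs, pk_mul, List.map_map, ← Nat.shiftRight_add,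
      ih (j + 1) hC' (by omega)]
    rw [pk_xor _ _ (fun v => ?_) (fun v => app_lt hC' _)]
    · refine congrArg (pk d) (List.map_congr_left fun v _ => ?_)
      rw [app_cons, Nat.shiftRight_add, Function.comp_apply, Nat.and_one_is_mod, Nat.testBit_zero]
      congr 1
      rcases Nat.mod_two_eq_zero_or_one (v >>> j) with h | h <;> simp [h]
    · show ((v >>> j) &&& 1) * c < 2 ^ d
      rw [Nat.and_one_is_mod]
      rcases Nat.mod_two_eq_zero_or_one (v >>> j) with h | h <;> simp [h, hc]

theorem pk_inj {d : Nat} : ∀ {vs ws : List Nat}, (∀ v ∈ vs, v < 2 ^ d) → (∀ v ∈ ws, v < 2 ^ d) →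
    vs.length = ws.length → pk d vs = pk d ws → vs = ws
  | [], [], _, _, _, _ => rfl
  | [], _ :: _, _, _, h, _ => by simp at h
  | _ :: _, [], _, _, h, _ => by simp at h
  | v :: vs, w :: ws, hv, hw, hl, h => by
    simp only [pk] at h
    have h1 := congrArg (· % 2 ^ d) h
    have h2 := congrArg (· / 2 ^ d) h
    simp only [pk_cons_mod (hv v List.mem_cons_self), pk_cons_mod (hw w List.mem_cons_self)] at h1
    simp only [pk_cons_div (hv v List.mem_cons_self), pk_cons_div (hw w List.mem_cons_self)] at h2
    rw [h1, pk_inj (fun x hx => hv x (List.mem_cons_of_mem _ hx))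
      (fun x hx => hw x (List.mem_cons_of_mem _ hx)) (by simpa using hl) h2]

/-- Apply the matrices of a word to all fields at once, the last first. -/
noncomputable def srun {α : Type*} (m : Nat) (M : α → List Nat) (w : List α) (S : Nat) : Nat :=
  List.rec (motive := fun _ => Nat) S (fun a _ ih => force ih fun r => sapp m (M a) r) w

theorem srun_cons {α : Type*} (m : Nat) (M : α → List Nat) (a : α) (w : List α) (S : Nat) :
    srun m M (a :: w) S = sapp m (M a) (srun m M w S) := by
  show force (srun m M w S) (fun r => sapp m (M a) r) = _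
  rw [force_eq]

/-- All columns are below `2 ^ d`. -/
def smallB (d : Nat) (C : List Nat) : Bool := C.all fun c => Nat.blt c (2 ^ d)

theorem lt_of_smallB {d : Nat} {C : List Nat} (h : smallB d C = true) (v : Nat) :
    app C v < 2 ^ d :=
  app_lt (fun c hc => Nat.le_of_ble_eq_true (List.all_eq_true.1 h c hc)) v

/-- The unit vectors below `2 ^ d`. -/
def units (d : Nat) : List Nat := (List.range d).map fun i => Nat.pow 2 i

/-- The word fixes the unit vectors below `2 ^ d`. -/
noncomputable def idB {α : Type*} (M : α → List Nat) (d : Nat) (w : List α) : Bool :=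
  cond (w.all fun a => Nat.ble (M a).length d && smallB d (M a))
    (force (pk d (List.replicate d 1)) fun m => force (pk d (units d)) fun S =>
      Nat.beq (srun m M w S) S) false

theorem run_eq_self {α : Type*} {M : α → List Nat} {d : Nat} {w : List α} (h : idB M d w = true)
    {v : Nat} (hv : v < 2 ^ d) : run M w v = v := by
  unfold idB at h
  cases hw : (w.all fun a => Nat.ble (M a).length d && smallB d (M a))
  · simp [hw] at h
  rw [hw, cond_true, force_eq, force_eq, Nat.beq_eq] at h
  simp only [List.all_eq_true, Bool.and_eq_true, Nat.ble_eq] at hw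
  have hU : ∀ x ∈ units d, x < 2 ^ d := by
    intro x hx
    obtain ⟨i, hi, rfl⟩ := List.mem_map.1 hx
    exact Nat.pow_lt_pow_right (by norm_num) (List.mem_range.1 hi)
  have hlen : (units d).length = d := by simp [units]
  have hb : ∀ u : List α, (∀ a ∈ u, a ∈ w) →
      (∀ x ∈ units d, run M u x < 2 ^ d) ∧
        srun (pk d (List.replicate d 1)) M u (pk d (units d)) =
          pk d ((units d).map fun x => run M u x) := by
    intro u
    induction u with
    | nil =>
      intro _
      refine ⟨hU, ?_⟩
      show pk d (units d) = _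
      exact congrArg (pk d) (List.map_id' _).symm
    | cons a u ih =>
      intro hu
      obtain ⟨hlt, heq⟩ := ih fun x hx => hu x (List.mem_cons_of_mem _ hx)
      obtain ⟨hl, hs⟩ := hw a (hu a List.mem_cons_self)
      have hc : ∀ c ∈ M a, c < 2 ^ d := fun c hc =>
        Nat.le_of_ble_eq_true (List.all_eq_true.1 hs c hc)
      refine ⟨fun x _ => by rw [run_cons]; exact app_lt hc _, ?_⟩
      have := sapp_spec ((units d).map fun x => run M u x) (by
        intro x hx
        obtain ⟨y, hy, rfl⟩ := List.mem_map.1 hx
        exact hlt y hy) (M a) 0 hc (by omega)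
      rw [List.length_map, hlen, Nat.shiftRight_zero] at this
      rw [srun_cons, heq, this, List.map_map]
      refine congrArg (pk d) (List.map_congr_left fun x _ => ?_)
      rw [Function.comp_apply, run_cons, Nat.shiftRight_zero]
  obtain ⟨hlt, heq⟩ := hb w fun a ha => ha
  have hlist : (units d).map (fun x => run M w x) = units d := by
    refine pk_inj ?_ hU (by simp) (heq.symm.trans h)
    intro x hx
    obtain ⟨y, hy, rfl⟩ := List.mem_map.1 hx
    exact hlt y hy
  refine eq_self_of_basis (run_xor M w) d (fun i hi => ?_) v hv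
  have hmem : 2 ^ i ∈ units d := List.mem_map.2 ⟨i, List.mem_range.2 hi, rfl⟩
  obtain ⟨k, hk, hke⟩ := List.mem_iff_getElem.1 hmem
  have := List.getElem_map (fun x => run M w x) (l := units d) (i := k) (h := by simpa using hk)
  simp only [hlist, hke] at this
  exact this.symm

/-- The vectors. -/
abbrev Vec (d : Nat) : Type := {v : Nat // v < 2 ^ d}

/-- A matrix with the inverse `D` as a permutation of the vectors. -/
noncomputable def toPerm {d : Nat} (C D : List Nat) (hC : smallB d C = true)
    (hD : smallB d D = true) (h1 : idB (fun b => bif b then C else D) d [false, true] = true)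
    (h2 : idB (fun b => bif b then C else D) d [true, false] = true) : Equiv.Perm (Vec d) where
  toFun v := ⟨app C v.1, lt_of_smallB hC _⟩
  invFun v := ⟨app D v.1, lt_of_smallB hD _⟩
  left_inv v := by
    apply Subtype.ext
    have h := run_eq_self h1 v.2
    rw [run_cons, run_cons] at h
    exact h
  right_inv v := by
    apply Subtype.ext
    have h := run_eq_self h2 v.2
    rw [run_cons, run_cons] at h
    exact h

theorem toPerm_apply {d : Nat} {C D : List Nat} (hC : smallB d C = true) (hD : smallB d D = true)
    (h1 : idB (fun b => bif b then C else D) d [false, true] = true)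
    (h2 : idB (fun b => bif b then C else D) d [true, false] = true) (v : Vec d) :
    ((toPerm C D hC hD h1 h2) v).1 = app C v.1 := rfl

/-- A product of permutations given by matrices is the word of the matrices. -/
theorem prod_apply {α : Type*} {d : Nat} (M : α → List Nat) (σ : α → Equiv.Perm (Vec d))
    (hσ : ∀ a v, (σ a v).1 = app (M a) v.1) (w : List α) (v : Vec d) :
    ((w.map σ).prod v).1 = run M w v.1 := by
  induction w with
  | nil => rfl
  | cons a w ih => rw [List.map_cons, List.prod_cons, Equiv.Perm.mul_apply, hσ, ih, run_cons]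

/-- A word that fixes the unit vectors is the identity. -/
theorem prod_eq_one {α : Type*} {d : Nat} (M : α → List Nat) (σ : α → Equiv.Perm (Vec d))
    (hσ : ∀ a v, (σ a v).1 = app (M a) v.1) {w : List α} (h : idB M d w = true) :
    (w.map σ).prod = 1 := by
  refine Equiv.ext fun v => Subtype.ext ?_
  rw [prod_apply M σ hσ, run_eq_self h v.2]
  rfl

end Cfsg.Agent.J4Rep
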